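import Mathlib

/-!
Weights of a normal abelian subgroup and fixed points of a 2-group in characteristic two.
-/

set_option autoImplicit false

open scoped TensorProduct

namespace Cfsg.Agent.Lib.WeightOrbits

open Module

/-- A common eigenvector of a commuting family. -/
theorem exists_weight {K : Type*} [Field K] [IsAlgClosed K] :
    ∀ (n : ℕ) (V : Type*) [AddCommGroup V] [Module K V] [FiniteDimensional K V] [Nontrivial V]
      {ι : Type*} (f : ι → Module.End K V), (∀ i j, f i * f j = f j * f i) → finrank K V = n →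
      ∃ (c : ι → K) (v : V), v ≠ 0 ∧ ∀ i, f i v = c i • v := by
  intro n
  induction n using Nat.strong_induction_on with
  | _ n ih => ?_
  intro V _ _ _ _ ι f hf hn
  by_cases hall : ∀ i, ∃ c : K, ∀ v, f i v = c • v
  · choose c hc using hall
    obtain ⟨v, hv⟩ := exists_ne (0 : V)
    exact ⟨c, v, hv, fun i => hc i v⟩
  push Not at hall
  obtain ⟨i, hi⟩ := hall
  obtain ⟨a, ha⟩ := Module.End.exists_eigenvalue (f i)
  set U := (f i).eigenspace a
  haveI : Nontrivial U := Submodule.nontrivial_iff_ne_bot.mpr ha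
  have hUtop : U ≠ ⊤ := fun h => by
    obtain ⟨v, hv⟩ := hi a
    exact hv (Module.End.mem_eigenspace_iff.mp (h ▸ Submodule.mem_top : v ∈ U))
  have hinv : ∀ j, ∀ v ∈ U, f j v ∈ U := fun j v hv => by
    rw [Module.End.mem_eigenspace_iff] at hv ⊢
    rw [← Module.End.mul_apply, hf, Module.End.mul_apply, hv, map_smul]
  obtain ⟨c, v, hv0, hv⟩ := ih (finrank K U) (hn ▸ Submodule.finrank_lt hUtop) U
    (fun j => (f j).restrict (hinv j))
    (fun j k => LinearMap.ext fun u => Subtype.ext (by
      simp only [Module.End.mul_apply, LinearMap.restrict_coe_apply]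
      rw [← Module.End.mul_apply, hf, Module.End.mul_apply])) rfl
  refine ⟨c, v, fun h => hv0 (Subtype.ext h), fun j => ?_⟩
  have := congrArg Subtype.val (hv j)
  simpa using this

variable {K : Type*} [Field K] {S : Type*} [Group S] {V : Type*} [AddCommGroup V] [Module K V]
  (ρ : Representation K S V) (P : Subgroup S)

/-- The weight space of `c`. -/
def wspace (c : P → K) : Submodule K V where
  carrier := {v | ∀ x : P, ρ x v = c x • v}
  zero_mem' := fun x => by simp
  add_mem' := fun {u v} hu hv x => by rw [map_add, hu x, hv x, smul_add]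
  smul_mem' := fun a v hv x => by rw [map_smul, hv x, smul_comm]

theorem mem_wspace {c : P → K} {v : V} : v ∈ wspace ρ P c ↔ ∀ x : P, ρ x v = c x • v := Iff.rfl

theorem wspace_mul {c : P → K} {v : V} (hv : v ∈ wspace ρ P c) (hv0 : v ≠ 0) (x y : P) :
    c (x * y) = c x * c y := by
  refine smul_left_injective K hv0 ?_
  show c (x * y) • v = (c x * c y) • v
  rw [← hv, Subgroup.coe_mul, map_mul, Module.End.mul_apply, hv y, map_smul, hv x, smul_smul, mul_comm]

theorem wspace_one {c : P → K} {v : V} (hv : v ∈ wspace ρ P c) (hv0 : v ≠ 0) : c 1 = 1 := by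
  refine smul_left_injective K hv0 ?_
  show c 1 • v = (1 : K) • v
  rw [← hv, one_smul, Subgroup.coe_one, map_one, Module.End.one_apply]

/-- Weight spaces for distinct weights are independent. -/
theorem eq_zero_of_sum_eq_zero {ι : Type*} (s : Finset ι) (c : ι → P → K) (hc : Set.InjOn c s)
    (w : ι → V) (hw : ∀ i ∈ s, w i ∈ wspace ρ P (c i)) (h0 : ∑ i ∈ s, w i = 0) :
    ∀ i ∈ s, w i = 0 := by
  classical
  induction s using Finset.induction_on generalizing w with
  | empty => intro i hi; simp at hi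
  | @insert a s has ih => ?_
  have hc' : Set.InjOn c (s : Set ι) := hc.mono (by simp)
  have hrest : ∀ i ∈ s, w i = 0 := by
    intro i hi
    have hne : c i ≠ c a := fun h => has (hc (by simp [hi]) (by simp) h ▸ hi)
    obtain ⟨x, hx⟩ := Function.ne_iff.mp hne
    have h1 := ih hc' (fun j => (c j x - c a x) • w j)
      (fun j hj => Submodule.smul_mem _ _ (hw j (Finset.mem_insert_of_mem hj))) ?_ i hi
    · exact (smul_eq_zero.mp h1).resolve_left (sub_ne_zero.mpr hx)
    · rw [Finset.sum_insert has] at h0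
      have h2 := congrArg (ρ (x : S)) h0
      rw [map_add, map_sum, hw a (Finset.mem_insert_self a s) x, map_zero,
        Finset.sum_congr rfl fun j hj => hw j (Finset.mem_insert_of_mem hj) x] at h2
      have h3 := congrArg (fun v => c a x • v) h0
      simp only [smul_add, smul_zero, Finset.smul_sum] at h3
      simp only [sub_smul, Finset.sum_sub_distrib]
      rw [sub_eq_zero]
      exact add_left_cancel (h2.trans h3.symm)
  intro i hi
  rcases Finset.mem_insert.mp hi with rfl | hi
  · rw [Finset.sum_insert has, Finset.sum_eq_zero hrest, add_zero] at h0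
    exact h0
  · exact hrest i hi

variable [hP : P.Normal]

/-- The conjugate of a weight. -/
def conjW (s : S) (c : P → K) : P → K :=
  fun x => c ⟨s⁻¹ * x * s, by simpa using hP.conj_mem _ x.2 s⁻¹⟩

theorem conjW_one (c : P → K) : conjW P 1 c = c := by
  funext x
  exact congrArg c (Subtype.ext (by simp))

theorem conjW_mul (s t : S) (c : P → K) : conjW P (s * t) c = conjW P s (conjW P t c) := by
  funext x
  exact congrArg c (Subtype.ext (by simp [mul_assoc]))

theorem map_wspace {c : P → K} {v : V} (s : S) (hv : v ∈ wspace ρ P c) :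
    ρ s v ∈ wspace ρ P (conjW P s c) := by
  intro x
  have h := hv ⟨s⁻¹ * x * s, by simpa using hP.conj_mem _ x.2 s⁻¹⟩
  calc ρ (x : S) (ρ s v) = ρ s (ρ (s⁻¹ * x * s) v) := by
        rw [← Module.End.mul_apply, ← map_mul, ← Module.End.mul_apply, ← map_mul]
        congr 2
        group
    _ = _ := by rw [h, map_smul]; rfl

theorem rho_ne_zero {v : V} (hv : v ≠ 0) (s : S) : ρ s v ≠ 0 := fun h => hv (by
  have := congrArg (ρ s⁻¹) h
  rwa [← Module.End.mul_apply, ← map_mul, inv_mul_cancel, map_one, map_zero,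
    Module.End.one_apply] at this)

variable [Finite S]

/-- In characteristic two a 2-group fixes a nonzero vector of every invariant subspace. -/
theorem exists_fixed_vector [CharP K 2] (T : Subgroup S) (hT : IsPGroup 2 T) (W : Submodule K V)
    (hW : ∀ t ∈ T, ∀ v ∈ W, ρ t v ∈ W) (hW0 : W ≠ ⊥) :
    ∃ v ∈ W, v ≠ 0 ∧ ∀ t ∈ T, ρ t v = v := by
  classical
  obtain ⟨v, hv, hv0⟩ := W.ne_bot_iff.mp hW0
  haveI := Fintype.ofFinite T
  have h2 : ∀ w : V, w + w = 0 := fun w => by
    rw [← two_smul K w, CharTwo.two_eq_zero, zero_smul]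
  haveI : Fact (Nat.Prime 2) := ⟨Nat.prime_two⟩
  have hz : ∀ a : ZMod 2, a = 0 ∨ a = 1 := fun a => by revert a; exact (by decide +revert : ∀ a : ZMod 2, a = 0 ∨ a = 1)
  have h11 : (1 : ZMod 2) + 1 = 0 := by decide +revert
  let φ : (T → ZMod 2) →+ V :=
    { toFun := fun f => ∑ t : T, if f t = 0 then 0 else ρ (t : S) v
      map_zero' := by simp
      map_add' := fun f g => by
        rw [← Finset.sum_add_distrib]
        refine Finset.sum_congr rfl fun t _ => ?_
        rcases hz (f t) with a | a <;> rcases hz (g t) with b | b <;>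
          simp [Pi.add_apply, a, b, h2, h11] }
  let A := φ.range
  haveI : Finite A := Finite.of_surjective φ.rangeRestrict φ.rangeRestrict_surjective
  have hinv : ∀ t : T, ∀ w ∈ A, ρ (t : S) w ∈ A := by
    rintro t _ ⟨f, rfl⟩
    refine ⟨fun u => f (t⁻¹ * u), ?_⟩
    show (∑ u : T, if f (t⁻¹ * u) = 0 then 0 else ρ (u : S) v) =
      ρ (t : S) (∑ u : T, if f u = 0 then 0 else ρ (u : S) v)
    rw [map_sum]
    refine (Fintype.sum_equiv (Equiv.mulLeft t) _ _ fun u => ?_).symm
    simp only [Equiv.coe_mulLeft, inv_mul_cancel_left, Subgroup.coe_mul, map_mul,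
      Module.End.mul_apply]
    split_ifs <;> simp
  letI : MulAction T A :=
    { smul := fun t w => ⟨ρ (t : S) w, hinv t w w.2⟩
      one_smul := fun w => Subtype.ext (by show ρ ((1 : T) : S) (w : V) = w; simp)
      mul_smul := fun a b w => Subtype.ext (by
        show ρ ((a * b : T) : S) (w : V) = ρ (a : S) (ρ (b : S) w); simp) }
  have hmem : ρ ((1 : T) : S) v ∈ A := ⟨Pi.single 1 1, by
    show (∑ u : T, if (Pi.single 1 1 : T → ZMod 2) u = 0 then 0 else ρ (u : S) v) = _
    rw [Finset.sum_eq_single 1]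
    · simp
    · intro u _ hu; simp [hu]
    · simp⟩
  rw [Subgroup.coe_one, map_one, Module.End.one_apply] at hmem
  have hdvd : 2 ∣ Nat.card A := by
    have h1 : addOrderOf (⟨v, hmem⟩ : A) = 2 :=
      addOrderOf_eq_prime (Subtype.ext (by simp [two_nsmul, h2])) fun h => hv0 (congrArg Subtype.val h)
    exact h1 ▸ addOrderOf_dvd_natCard _
  have h0 : (0 : A) ∈ MulAction.fixedPoints T A := fun t => Subtype.ext (map_zero (ρ (t : S)))
  obtain ⟨w, hw, hw0⟩ := hT.exists_fixed_point_of_prime_dvd_card_of_fixed_point A hdvd h0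
  refine ⟨w, ?_, fun h => hw0 (Subtype.ext h).symm, fun t ht => congrArg Subtype.val (hw ⟨t, ht⟩)⟩
  obtain ⟨f, hf⟩ := w.2
  rw [← hf]
  exact W.sum_mem fun t _ => by split_ifs <;> [exact W.zero_mem; exact hW _ t.2 v hv]

/-- Summing a stabiliser-fixed weight vector over an orbit gives a fixed vector. -/
theorem exists_orbit_vector [CharP K 2] (T : Subgroup S) (hT : IsPGroup 2 T) (c : P → K)
    (hc : wspace ρ P c ≠ ⊥) :
    ∃ (O : Finset (P → K)) (w : (P → K) → V), (∀ d, d ∈ O ↔ ∃ t ∈ T, d = conjW P t c) ∧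
      (∀ d ∈ O, w d ∈ wspace ρ P d ∧ w d ≠ 0) ∧
      (∀ t ∈ T, ρ t (∑ d ∈ O, w d) = ∑ d ∈ O, w d) ∧ ∃ a : ℕ, O.card = 2 ^ a := by
  classical
  haveI : Fintype T := Fintype.ofFinite T
  haveI : Fact (Nat.Prime 2) := ⟨Nat.prime_two⟩
  letI : MulAction T (P → K) :=
    { smul := fun t d => conjW P (t : S) d
      one_smul := fun d => conjW_one P d
      mul_smul := fun a b d => conjW_mul P (a : S) (b : S) d }
  let R : Subgroup S := (MulAction.stabilizer T c).map T.subtype
  have hR : ∀ t ∈ R, ∀ v ∈ wspace ρ P c, ρ t v ∈ wspace ρ P c := by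
    rintro _ ⟨t, ht, rfl⟩ v hv
    have h := map_wspace ρ P (t : S) hv
    rwa [show conjW P (t : S) c = c from ht] at h
  obtain ⟨v, hv, hv0, hfix⟩ := exists_fixed_vector ρ R ((hT.to_subgroup _).map _) _ hR hc
  set O : Finset (P → K) := Finset.univ.image fun t : T => t • c
  have hO : ∀ d, d ∈ O ↔ ∃ t ∈ T, d = conjW P t c := by
    intro d
    simp only [O, Finset.mem_image, Finset.mem_univ, true_and]
    constructor
    · rintro ⟨t, rfl⟩; exact ⟨t, t.2, rfl⟩
    · rintro ⟨t, ht, rfl⟩; exact ⟨⟨t, ht⟩, rfl⟩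
  let g : (P → K) → T := fun d => if h : ∃ t : T, t • c = d then h.choose else 1
  have hg : ∀ d ∈ O, g d • c = d := by
    intro d hd
    simp only [O, Finset.mem_image, Finset.mem_univ, true_and] at hd
    simp only [g, dif_pos hd]
    exact hd.choose_spec
  have hv_of : ∀ t : T, ρ (t : S) v = ρ (g (t • c) : S) v := by
    intro t
    have hmem : t • c ∈ O := by simp [O]
    have h1 : ((g (t • c))⁻¹ * t) ∈ MulAction.stabilizer T c := by
      rw [MulAction.mem_stabilizer_iff, mul_smul, inv_smul_eq_iff]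
      exact (hg _ hmem).symm
    have h2 := hfix _ ⟨_, h1, rfl⟩
    conv_rhs => rw [← h2]
    rw [← Module.End.mul_apply, ← map_mul]
    simp
  refine ⟨O, fun d => ρ (g d : S) v, hO, fun d hd => ⟨?_, rho_ne_zero ρ hv0 _⟩, fun t ht => ?_, ?_⟩
  · have h := map_wspace ρ P (g d : S) hv
    rwa [show conjW P (g d : S) c = d from hg d hd] at h
  · rw [map_sum]
    refine Finset.sum_equiv (MulAction.toPerm (⟨t, ht⟩ : T)) ?_ ?_
    · intro d
      simp only [MulAction.toPerm_apply, O, Finset.mem_image, Finset.mem_univ, true_and]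
      constructor
      · rintro ⟨u, rfl⟩; exact ⟨⟨t, ht⟩ * u, mul_smul _ _ _⟩
      · rintro ⟨u, hu⟩; exact ⟨(⟨t, ht⟩ : T)⁻¹ * u, by rw [mul_smul, hu, inv_smul_smul]⟩
    · intro d hd
      rw [← Module.End.mul_apply, ← map_mul]
      have := hv_of ((⟨t, ht⟩ : T) * g d)
      rw [mul_smul, hg d hd] at this
      simpa using this
  · haveI : Finite (MulAction.orbit T c) := Set.finite_coe_iff.mpr (Set.finite_range _)
    obtain ⟨a, ha⟩ := hT.card_orbit c
    refine ⟨a, ?_⟩
    rw [← ha]
    rw [show MulAction.orbit T c = (O : Set (P → K)) by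
      ext d; simp [O, MulAction.mem_orbit_iff]]
    simp

end Cfsg.Agent.Lib.WeightOrbits
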